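import Mathlib

/-!
# Criteria for multiple transitivity

* `of_fixing_transitive` : `k`-transitivity from transitivity of pointwise stabilisers
* `of_fixing_transitive_top` : only the stabilisers of `(k-1)`-sets are needed when `k < n`
* `add_of_fixing` : `m`-transitive plus a `j`-transitive fixator of some `m`-set gives `m + j`
-/

namespace Cfsg.Agent.Lib.PermTrans

open MulAction

variable {G : Type*} [Group G] {α : Type*} [MulAction G α]

/-- `k`-transitivity from transitivity of the stabilisers of fewer than `k` points. -/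
theorem of_fixing_transitive (k : ℕ)
    (h : ∀ s : Finset α, s.card < k → ∀ x y : α, x ∉ s → y ∉ s →
      ∃ g ∈ fixingSubgroup G (s : Set α), g • x = y) :
    IsMultiplyPretransitive G α k := by
  classical
  induction k with
  | zero => exact is_zero_pretransitive
  | succ k ih =>
    have hk : IsMultiplyPretransitive G α k := ih fun s hs => h s (by omega)
    refine ⟨fun x y => ?_⟩
    obtain ⟨g, hg⟩ := exists_smul_eq G (Fin.castSuccEmb.trans x) (Fin.castSuccEmb.trans y)
    have hgi : ∀ i : Fin k, g • x i.castSucc = y i.castSucc := fun i =>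
      DFunLike.congr_fun hg i
    let s : Finset α := Finset.univ.image fun i : Fin k => y i.castSucc
    have h1 : g • x (Fin.last k) ∉ s := by
      simp only [s, Finset.mem_image, Finset.mem_univ, true_and, not_exists]
      intro i hi
      rw [← hgi] at hi
      exact (Fin.castSucc_lt_last i).ne (x.injective (MulAction.injective g hi))
    have h2 : y (Fin.last k) ∉ s := by
      simp only [s, Finset.mem_image, Finset.mem_univ, true_and, not_exists]
      exact fun i hi => (Fin.castSucc_lt_last i).ne (y.injective hi)
    have hs : s.card < k + 1 := by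
      refine lt_of_le_of_lt Finset.card_image_le ?_
      simp
    obtain ⟨f, hf, hfx⟩ := h s hs _ _ h1 h2
    refine ⟨f * g, ?_⟩
    ext i
    simp only [Function.Embedding.smul_apply, mul_smul]
    induction i using Fin.lastCases with
    | last => exact hfx
    | cast i =>
      rw [hgi]
      exact (mem_fixingSubgroup_iff G).1 hf _
        (Finset.mem_coe.2 (Finset.mem_image.2 ⟨i, Finset.mem_univ _, rfl⟩))

/-- When `k < n`, only stabilisers of exactly `k - 1` points are needed. -/
theorem of_fixing_transitive_top [Fintype α] (k : ℕ) (hk : k < Fintype.card α)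
    (h : ∀ s : Finset α, s.card + 1 = k → ∀ x y : α, x ∉ s → y ∉ s →
      ∃ g ∈ fixingSubgroup G (s : Set α), g • x = y) :
    IsMultiplyPretransitive G α k := by
  classical
  refine of_fixing_transitive k fun s hs x y hx hy => ?_
  have hsub : s ⊆ (Finset.univ \ {x, y}) := by
    intro z hz
    simp only [Finset.mem_sdiff, Finset.mem_univ, Finset.mem_insert, Finset.mem_singleton,
      true_and, not_or]
    exact ⟨fun h => hx (h ▸ hz), fun h => hy (h ▸ hz)⟩
  have hc : k - 1 ≤ (Finset.univ \ {x, y} : Finset α).card := by
    rw [Finset.card_sdiff_of_subset (Finset.subset_univ _), Finset.card_univ]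
    have : ({x, y} : Finset α).card ≤ 2 := Finset.card_le_two
    omega
  obtain ⟨t, hst, htu, htc⟩ := Finset.exists_subsuperset_card_eq hsub (by omega) hc
  have hxt : x ∉ t := fun h => by simpa using htu h
  have hyt : y ∉ t := fun h => by simpa using htu h
  obtain ⟨g, hg, hgx⟩ := h t (by omega) x y hxt hyt
  exact ⟨g, fixingSubgroup_antitone G α (Finset.coe_subset.2 hst) hg, hgx⟩

/-- An `m`-transitive group in which the fixator of some `m`-set is `j`-transitive on the
remaining points is `(m + j)`-transitive. -/
theorem add_of_fixing {m j : ℕ} (hG : IsMultiplyPretransitive G α m)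
    (s : Set α) [Finite s] (hs : s.ncard = m)
    (hj : IsMultiplyPretransitive (fixingSubgroup G s) (SubMulAction.ofFixingSubgroup G s) j) :
    IsMultiplyPretransitive G α (m + j) := by
  refine ⟨fun x y => ?_⟩
  have : Nonempty (Fin m ≃ s) :=
    Finite.card_eq.mp (by simp [Nat.card_coe_set_eq, hs])
  obtain ⟨e⟩ := this
  let es : Fin m ↪ α := e.toEmbedding.trans (Function.Embedding.subtype _)
  have key : ∀ z : Fin (m + j) ↪ α, ∃ g : G, ∀ i : Fin m, g • z (Fin.castAdd j i) = es i := by
    intro z
    obtain ⟨g, hg⟩ := exists_smul_eq G ((Fin.castAddEmb j).trans z) es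
    exact ⟨g, fun i => DFunLike.congr_fun hg i⟩
  obtain ⟨g₁, hg₁⟩ := key x
  obtain ⟨g₂, hg₂⟩ := key y
  have hout : ∀ (z : Fin (m + j) ↪ α) (g : G), (∀ i : Fin m, g • z (Fin.castAdd j i) = es i) →
      ∀ i : Fin j, g • z (Fin.natAdd m i) ∈ SubMulAction.ofFixingSubgroup G s := by
    intro z g hg i hmem
    have h1 : es (e.symm ⟨_, hmem⟩) = g • z (Fin.natAdd m i) := by simp [es]
    rw [← hg] at h1
    have := z.injective (MulAction.injective g h1)
    simp [Fin.ext_iff] at this
    omega
  let x' : Fin j ↪ SubMulAction.ofFixingSubgroup G s :=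
    ⟨fun i => ⟨g₁ • x (Fin.natAdd m i), hout x g₁ hg₁ i⟩, fun a b h =>
      Fin.natAdd_injective _ _ (x.injective (MulAction.injective g₁ (congrArg Subtype.val h)))⟩
  let y' : Fin j ↪ SubMulAction.ofFixingSubgroup G s :=
    ⟨fun i => ⟨g₂ • y (Fin.natAdd m i), hout y g₂ hg₂ i⟩, fun a b h =>
      Fin.natAdd_injective _ _ (y.injective (MulAction.injective g₂ (congrArg Subtype.val h)))⟩
  obtain ⟨f, hf⟩ := exists_smul_eq (fixingSubgroup G s) x' y'
  refine ⟨g₂⁻¹ * f * g₁, ?_⟩
  ext i
  simp only [Function.Embedding.smul_apply, mul_smul]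
  induction i using Fin.addCases with
  | left i =>
    rw [hg₁, show (f : G) • es i = es i from (mem_fixingSubgroup_iff G).1 f.2 _ (e i).2,
      inv_smul_eq_iff, hg₂]
  | right i =>
    have := congrArg Subtype.val (DFunLike.congr_fun hf i)
    change (f : G) • g₁ • x (Fin.natAdd m i) = g₂ • y (Fin.natAdd m i) at this
    rw [this, inv_smul_smul]

end Cfsg.Agent.Lib.PermTrans
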