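import Mathlib
import Cfsg.Prelude.Def_Perm
import Cfsg.Agent.Lib.Characters.Complete
import Cfsg.Agent.Lib.Perm.Modules
import Cfsg.Agent.Lib.Characters.Transitive

/-!
# Constituents of permutation characters and the centraliser ring

* `dvd_finrank`, `exists_trace_eq_mul` : common divisors of constituent degrees
* `commute_of_multiplicityFree`, `exists_noncommuting` : multiplicity-free iff commutative ring
* `orbital`, `orbital_*` : orbital matrices and their eigenvalues
-/

namespace Cfsg.Agent.Lib.PermTrans.Constituents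

open MulAction Module
open scoped ComplexConjugate
open Cfsg.Agent.Lib.Characters.Basic Cfsg.Agent.Lib.Characters.Complete Cfsg.Agent.Lib.Induced.Basic
open Cfsg.Agent.Lib.Perm.Modules Cfsg.Agent.Lib.Characters.Transitive

universe u v w

/-- Restriction of a trace to two complementary invariant submodules. -/
theorem trace_eq_add {V : Type v} [AddCommGroup V] [Module ℂ V] [FiniteDimensional ℂ V]
    (T : Module.End ℂ V) (p q : Submodule ℂ V) (h : IsCompl p q)
    (hp : ∀ x ∈ p, T x ∈ p) (hq : ∀ x ∈ q, T x ∈ q) :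
    LinearMap.trace ℂ V T =
      LinearMap.trace ℂ p (T.restrict hp) + LinearMap.trace ℂ q (T.restrict hq) := by
  let e := Submodule.prodEquivOfIsCompl p q h
  have he : T = e.conj ((T.restrict hp).prodMap (T.restrict hq)) := by
    refine LinearMap.ext fun x => ?_
    obtain ⟨y, rfl⟩ := e.surjective x
    rw [LinearEquiv.conj_apply, LinearMap.comp_apply, LinearMap.comp_apply,
      LinearEquiv.coe_coe, LinearEquiv.coe_coe, LinearEquiv.symm_apply_apply]
    rw [Submodule.coe_prodEquivOfIsCompl' _ _ h y, Submodule.coe_prodEquivOfIsCompl' _ _ h]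
    simp [map_add]
  conv_lhs => rw [he]
  rw [LinearMap.trace_conj', LinearMap.trace_prodMap']

/-- A natural number that is a multiple of `f` by an algebraic integer is a multiple of `f`. -/
theorem dvd_of_eq_mul_integral {a f : ℕ} {z : ℂ} (hz : IsIntegral ℤ z) (h : (a : ℂ) = f * z) :
    f ∣ a := by
  rcases Nat.eq_zero_or_pos f with rfl | hf
  · simp at h; simp [h]
  have hz' : z = algebraMap ℚ ℂ ((a : ℚ) / f) := by
    rw [map_div₀, map_natCast, map_natCast, h, mul_div_assoc, mul_comm,
      div_mul_cancel₀ _ (Nat.cast_ne_zero.2 hf.ne')]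
  rw [hz'] at hz
  have hq : IsIntegral ℤ ((a : ℚ) / f) :=
    (isIntegral_algebraMap_iff (algebraMap ℚ ℂ).injective).1 hz
  obtain ⟨k, hk⟩ := IsIntegrallyClosed.isIntegral_iff.1 hq
  have hk' : ((k * f : ℤ) : ℚ) = ((a : ℤ) : ℚ) := by
    push_cast
    rw [show (k : ℚ) = (a : ℚ) / f from hk, div_mul_cancel₀ _ (Nat.cast_ne_zero.2 hf.ne')]
  exact Int.natCast_dvd_natCast.1 ⟨k, by rw [mul_comm]; exact_mod_cast hk'.symm⟩

variable {G : Type u} [Group G]

section rep

variable {V : Type v} [AddCommGroup V] [Module ℂ V] [FiniteDimensional ℂ V]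

theorem classInner_split [Fintype G] (ρ : Representation ℂ G V) (p q : Subrepresentation ρ)
    (h : IsCompl p.toSubmodule q.toSubmodule) (θ : G → ℂ) :
    Cfsg.classInner ρ.character θ =
      Cfsg.classInner p.toRepresentation.character θ +
        Cfsg.classInner q.toRepresentation.character θ := by
  rw [char_add_of_isCompl ρ p q h, classInner_add_left]

theorem exists_compl [Finite G] (ρ : Representation ℂ G V) (p : Subrepresentation ρ) :
    ∃ q : Subrepresentation ρ, IsCompl p.toSubmodule q.toSubmodule := by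
  have : NeZero (Nat.card G : ℂ) := ⟨Nat.cast_ne_zero.mpr Nat.card_pos.ne'⟩
  obtain ⟨q, hq⟩ := exists_isCompl p
  exact ⟨q, disjoint_iff.mpr (congrArg Subrepresentation.toSubmodule hq.1.eq_bot),
    codisjoint_iff.mpr (congrArg Subrepresentation.toSubmodule hq.2.eq_top)⟩

theorem classInner_char_nat [Fintype G] (ρ : Representation ℂ G V) (χ : Cfsg.IrrCharacter G) :
    ∃ k : ℕ, Cfsg.classInner ρ.character (χ : G → ℂ) = k :=
  exists_classInner_nat (isCharacter_character ρ) (isCharacter_irr χ)

theorem constituent_of_subrep [Fintype G] (ρ : Representation ℂ G V) (p : Subrepresentation ρ)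
    (χ : Cfsg.IrrCharacter G) (h : Cfsg.classInner p.toRepresentation.character (χ : G → ℂ) ≠ 0) :
    Cfsg.classInner ρ.character (χ : G → ℂ) ≠ 0 := by
  obtain ⟨q, hq⟩ := exists_compl ρ p
  obtain ⟨a, ha⟩ := classInner_char_nat p.toRepresentation χ
  obtain ⟨b, hb⟩ := classInner_char_nat q.toRepresentation χ
  rw [classInner_split ρ p q hq, ha, hb]
  rw [ha, Nat.cast_ne_zero] at h
  rw [← Nat.cast_add, Nat.cast_ne_zero]
  omega

theorem dvd_finrank [Fintype G] (ρ : Representation ℂ G V) (f : ℕ)
    (h : ∀ χ : Cfsg.IrrCharacter G, Cfsg.classInner ρ.character (χ : G → ℂ) ≠ 0 →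
      ∃ m : ℕ, (χ : G → ℂ) 1 = (f : ℂ) * m) : f ∣ finrank ℂ V := by
  classical
  have := Fintype.ofFinite (Cfsg.IrrCharacter G)
  have h1 := congrFun (classFunction_eq_sum (isClassFunction_character ρ)) 1
  rw [Representation.char_one, Finset.sum_apply] at h1
  choose k hk using classInner_char_nat ρ
  choose m hm using h
  have h2 : ∀ χ : Cfsg.IrrCharacter G, ∃ c : ℕ,
      (Cfsg.classInner ρ.character (χ : G → ℂ) • (χ : G → ℂ)) 1 = (f : ℂ) * c := by
    intro χ
    by_cases hc : Cfsg.classInner ρ.character (χ : G → ℂ) = 0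
    · exact ⟨0, by simp [hc]⟩
    · exact ⟨k χ * m χ hc, by
        rw [Pi.smul_apply, smul_eq_mul, hk, hm χ hc]; push_cast; ring⟩
  choose c hc using h2
  rw [Finset.sum_congr rfl fun χ _ => hc χ, ← Finset.mul_sum, ← Nat.cast_sum, ← Nat.cast_mul,
    Nat.cast_inj] at h1
  exact ⟨_, h1⟩

theorem roots_charpoly_sum (T : Module.End ℂ V) :
    LinearMap.trace ℂ V T = T.charpoly.roots.sum := by
  classical
  let b := Module.finBasis ℂ V
  rw [LinearMap.trace_eq_matrix_trace ℂ b, Matrix.trace_eq_sum_roots_charpoly,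
    LinearMap.charpoly_toMatrix]

/-- The trace of an equivariant map is `f` times an algebraic integer. -/
theorem exists_trace_eq_mul [Fintype G] (ρ : Representation ℂ G V) (T : Module.End ℂ V)
    (hT : ∀ g : G, Commute T (ρ g)) (f : ℕ)
    (h : ∀ χ : Cfsg.IrrCharacter G, Cfsg.classInner ρ.character (χ : G → ℂ) ≠ 0 →
      ∃ m : ℕ, (χ : G → ℂ) 1 = (f : ℂ) * m)
    (hint : ∀ μ : ℂ, T.HasEigenvalue μ → IsIntegral ℤ μ) :
    ∃ z : ℂ, IsIntegral ℤ z ∧ LinearMap.trace ℂ V T = f * z := by
  classical
  have hdvd : ∀ μ : ℂ, f ∣ T.charpoly.roots.count μ := by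
    intro μ
    let E : Subrepresentation ρ := ⟨T.maxGenEigenspace μ, fun g x hx =>
      Module.End.mapsTo_maxGenEigenspace_of_comm (hT g) μ hx⟩
    rw [Polynomial.count_roots, ← LinearMap.finrank_maxGenEigenspace_eq]
    exact dvd_finrank E.toRepresentation f fun χ hχ => h χ (constituent_of_subrep ρ E χ hχ)
  choose c hc using hdvd
  refine ⟨∑ μ ∈ T.charpoly.roots.toFinset, (c μ : ℂ) * μ, IsIntegral.sum _ fun μ hμ => ?_, ?_⟩
  · refine IsIntegral.mul (by simpa using (isIntegral_algebraMap (R := ℤ) (A := ℂ) (x := (c μ : ℤ))))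
      (hint μ ?_)
    rw [Module.End.hasEigenvalue_iff_isRoot_charpoly]
    exact Polynomial.isRoot_of_mem_roots (Multiset.mem_toFinset.1 hμ)
  · rw [roots_charpoly_sum, Finset.mul_sum, Finset.sum_multiset_count]
    refine Finset.sum_congr rfl fun μ _ => ?_
    rw [nsmul_eq_mul, hc μ]
    push_cast
    ring

/-- In a multiplicity-free representation equivariant maps commute. -/
theorem commute_of_multiplicityFree [Fintype G] (ρ : Representation ℂ G V)
    (h : ∀ χ : Cfsg.IrrCharacter G, Cfsg.classInner ρ.character (χ : G → ℂ) = 0 ∨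
      Cfsg.classInner ρ.character (χ : G → ℂ) = 1)
    (S T : Module.End ℂ V) (hS : ∀ g, Commute S (ρ g)) (hT : ∀ g, Commute T (ρ g)) :
    Commute S T := by
  suffices H : ∀ (d : ℕ) {V : Type v} [AddCommGroup V] [Module ℂ V] [FiniteDimensional ℂ V]
      (ρ : Representation ℂ G V),
      (∀ χ : Cfsg.IrrCharacter G, Cfsg.classInner ρ.character (χ : G → ℂ) = 0 ∨
        Cfsg.classInner ρ.character (χ : G → ℂ) = 1) →
      finrank ℂ V = d → ∀ (S T : Module.End ℂ V), (∀ g, Commute S (ρ g)) → (∀ g, Commute T (ρ g)) →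
      Commute S T from H _ ρ h rfl S T hS hT
  intro d
  induction d using Nat.strong_induction_on with
  | _ d ih =>
    intro V _ _ _ ρ h hd S T hS hT
    rcases Nat.eq_zero_or_pos d with rfl | hd0
    · have : Subsingleton V := Module.finrank_zero_iff.mp hd
      exact LinearMap.ext fun x => Subsingleton.elim _ _
    obtain ⟨n, τ, hτ, hne⟩ := exists_constituent ρ (by rw [hd]; exact hd0)
    obtain ⟨p, q, hpq, ⟨e⟩⟩ := exists_summand τ ρ hne
    have hpirr : p.toRepresentation.IsIrreducible := isIrreducible_of_equiv e hτ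
    have hp1 : Cfsg.classInner p.toRepresentation.character (τ.character) = 1 := by
      rw [← Representation.char_iso e]
      exact classInner_self_irr (irrChar τ)
    have hq0 : Cfsg.classInner q.toRepresentation.character τ.character = 0 := by
      have h1 := classInner_split ρ p q hpq τ.character
      obtain ⟨k, hk⟩ := exists_classInner_nat (isCharacter_character q.toRepresentation)
        (isCharacter_character τ)
      rw [hp1, hk] at h1
      rcases h (irrChar τ) with h2 | h2
      · exact absurd h2 hne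
      · rw [coe_irrChar, h1] at h2
        rw [hk]
        simpa using h2
    have hqp : ∀ (U : Module.End ℂ V), (∀ g, Commute U (ρ g)) →
        (∀ x ∈ p.toSubmodule, U x ∈ p.toSubmodule) ∧ (∀ x ∈ q.toSubmodule, U x ∈ q.toSubmodule) := by
      intro U hU
      have hproj : ∀ (a b : Subrepresentation ρ) (hab : IsCompl a.toSubmodule b.toSubmodule),
          Cfsg.classInner b.toRepresentation.character a.toRepresentation.character = 0 →
          ∀ x ∈ a.toSubmodule, U x ∈ a.toSubmodule := by
        intro a b hab h0 x hx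
        rw [classInner_character_eq_finrank, Nat.cast_eq_zero] at h0
        let P := Submodule.projectionOnto b.toSubmodule a.toSubmodule hab.symm
        have hPc : ∀ g y, P (ρ g y) = b.toRepresentation g (P y) := by
          intro g y
          obtain ⟨y₁, hy₁, y₂, hy₂, rfl⟩ :=
            Submodule.mem_sup.mp (show y ∈ a.toSubmodule ⊔ b.toSubmodule by
              rw [hab.sup_eq_top]; trivial)
          simp only [map_add, P]
          rw [Submodule.projectionOnto_apply_of_mem_right hab.symm hy₁,
            Submodule.projectionOnto_apply_of_mem_right hab.symm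
              (a.apply_mem_toSubmodule g hy₁),
            map_zero]
          simp only [zero_add]
          rw [Submodule.projectionOnto_apply_left hab.symm ⟨y₂, hy₂⟩,
            Submodule.projectionOnto_apply_left hab.symm ⟨_, b.apply_mem_toSubmodule g hy₂⟩]
          rfl
        let F : Representation.IntertwiningMap a.toRepresentation b.toRepresentation :=
          ⟨P ∘ₗ U ∘ₗ a.toSubmodule.subtype, fun g => LinearMap.ext fun y => by
            change P (U (ρ g (y : V))) = b.toRepresentation g (P (U (y : V)))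
            rw [← hPc]
            exact congrArg P (LinearMap.congr_fun (hU g).eq y)⟩
        have : Subsingleton (Representation.IntertwiningMap a.toRepresentation b.toRepresentation) :=
          Module.finrank_zero_iff.mp h0
        have hF : F = 0 := Subsingleton.elim _ _
        have h2 : P (U x) = 0 :=
          congrArg (fun F : Representation.IntertwiningMap a.toRepresentation b.toRepresentation =>
            F.toLinearMap ⟨x, hx⟩) hF
        exact (Submodule.projectionOnto_apply_eq_zero_iff hab.symm).1 h2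
      refine ⟨hproj p q hpq ?_, hproj q p hpq.symm ?_⟩
      · rw [← Representation.char_iso e]; exact hq0
      · rw [← Representation.char_iso e, ← classInner_conj_symm, hq0, map_zero]
    have hfin : finrank ℂ q.toSubmodule < d := by
      have := Submodule.finrank_add_eq_of_isCompl hpq
      have := finrank_pos_of_isIrreducible p.toRepresentation
      omega
    have hqfree : ∀ χ : Cfsg.IrrCharacter G,
        Cfsg.classInner q.toRepresentation.character (χ : G → ℂ) = 0 ∨
        Cfsg.classInner q.toRepresentation.character (χ : G → ℂ) = 1 := by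
      intro χ
      have h1 := classInner_split ρ p q hpq (χ : G → ℂ)
      obtain ⟨a, ha⟩ := classInner_char_nat p.toRepresentation χ
      obtain ⟨b, hb⟩ := classInner_char_nat q.toRepresentation χ
      have h2 := h χ
      rw [h1, ha, hb] at h2
      rw [hb]
      norm_cast at h2 ⊢
      omega
    obtain ⟨hSp, hSq⟩ := hqp S hS
    obtain ⟨hTp, hTq⟩ := hqp T hT
    have hqc : Commute (S.restrict hSq) (T.restrict hTq) :=
      ih _ hfin q.toRepresentation hqfree rfl _ _
        (fun g => LinearMap.ext fun y => Subtype.ext (LinearMap.congr_fun (hS g).eq y))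
        (fun g => LinearMap.ext fun y => Subtype.ext (LinearMap.congr_fun (hT g).eq y))
    have hscal : ∀ (U : Module.End ℂ V) (hUp : ∀ x ∈ p.toSubmodule, U x ∈ p.toSubmodule),
        (∀ g, Commute U (ρ g)) → ∃ c : ℂ, ∀ x ∈ p.toSubmodule, U x = c • x := by
      intro U hUp hU
      let F : Representation.IntertwiningMap p.toRepresentation p.toRepresentation :=
        ⟨U.restrict hUp, fun g => LinearMap.ext fun y => Subtype.ext (LinearMap.congr_fun (hU g).eq y)⟩
      obtain ⟨c, hc⟩ :=
        (Representation.IsIrreducible.algebraMap_intertwiningMap_bijective_of_isAlgClosed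
          (ρ := p.toRepresentation)).2 F
      refine ⟨c, fun x hx => ?_⟩
      have h3 := congrArg
        (fun F : Representation.IntertwiningMap p.toRepresentation p.toRepresentation =>
          ((F.toLinearMap ⟨x, hx⟩ : p.toSubmodule) : V)) hc
      simp only [Algebra.algebraMap_eq_smul_one] at h3
      exact h3.symm
    obtain ⟨a, ha⟩ := hscal S hSp hS
    obtain ⟨b, hb⟩ := hscal T hTp hT
    refine LinearMap.ext fun x => ?_
    obtain ⟨y, hy, z, hz, rfl⟩ := Submodule.mem_sup.mp
      (show x ∈ p.toSubmodule ⊔ q.toSubmodule by rw [hpq.sup_eq_top]; trivial)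
    simp only [Module.End.mul_apply, map_add]
    have hz' : S (T z) = T (S z) := congrArg Subtype.val (LinearMap.congr_fun hqc.eq ⟨z, hz⟩)
    rw [hz', hb y hy, ha y hy, map_smul, map_smul, ha y hy, hb y hy, smul_comm]

/-- A repeated constituent gives two equivariant maps that do not commute. -/
theorem exists_noncommuting [Fintype G] (ρ : Representation ℂ G V) (χ : Cfsg.IrrCharacter G)
    (k : ℕ) (hk : 2 ≤ k) (h : Cfsg.classInner ρ.character (χ : G → ℂ) = k) :
    ∃ S T : Module.End ℂ V, (∀ g, Commute S (ρ g)) ∧ (∀ g, Commute T (ρ g)) ∧ ¬ Commute S T := by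
  obtain ⟨n, τ, hτ, hc⟩ := exists_rep χ
  rw [← hc] at h
  obtain ⟨p, q, hpq, ⟨e⟩⟩ := exists_summand τ ρ (by rw [h]; exact Nat.cast_ne_zero.2 (by omega))
  have hq : Cfsg.classInner q.toRepresentation.character τ.character ≠ 0 := by
    intro h0
    have h1 := classInner_split ρ p q hpq τ.character
    rw [h, h0, add_zero, ← Representation.char_iso e,
      show Cfsg.classInner τ.character τ.character = 1 from classInner_self_irr (irrChar τ)] at h1
    norm_cast at h1
    omega
  obtain ⟨r, r', hr, ⟨e'⟩⟩ := exists_summand τ q.toRepresentation hq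
  let π := Submodule.projectionOnto p.toSubmodule q.toSubmodule hpq
  have hπc : ∀ g y, π (ρ g y) = p.toRepresentation g (π y) := by
    intro g y
    obtain ⟨y₁, hy₁, y₂, hy₂, rfl⟩ := Submodule.mem_sup.mp
      (show y ∈ p.toSubmodule ⊔ q.toSubmodule by rw [hpq.sup_eq_top]; trivial)
    simp only [map_add, π]
    rw [Submodule.projectionOnto_apply_of_mem_right hpq hy₂,
      Submodule.projectionOnto_apply_of_mem_right hpq (q.apply_mem_toSubmodule g hy₂),
      map_zero, Submodule.projectionOnto_apply_left hpq ⟨y₁, hy₁⟩,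
      Submodule.projectionOnto_apply_left hpq ⟨_, p.apply_mem_toSubmodule g hy₁⟩]
    simp only [add_zero]
    rfl
  let ι : (Fin n → ℂ) →ₗ[ℂ] V :=
    q.toSubmodule.subtype ∘ₗ r.toSubmodule.subtype ∘ₗ e'.toLinearEquiv.toLinearMap
  let S : Module.End ℂ V := ι ∘ₗ e.toLinearEquiv.symm.toLinearMap ∘ₗ π
  let T : Module.End ℂ V := p.toSubmodule.subtype ∘ₗ π
  refine ⟨S, T, fun g => LinearMap.ext fun y => ?_, fun g => LinearMap.ext fun y => ?_, ?_⟩
  · change ι (e.toLinearEquiv.symm (π (ρ g y))) = ρ g (ι (e.toLinearEquiv.symm (π y)))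
    rw [hπc]
    obtain ⟨w, hw⟩ := e.toLinearEquiv.surjective (π y)
    rw [← hw, LinearEquiv.symm_apply_apply]
    have h1 : p.toRepresentation g (e.toLinearEquiv w) = e.toLinearEquiv (τ g w) :=
      (LinearMap.congr_fun (e.toIntertwiningMap.isIntertwining' g) w).symm
    rw [h1, LinearEquiv.symm_apply_apply]
    have h2 : r.toRepresentation g (e'.toLinearEquiv w) = e'.toLinearEquiv (τ g w) :=
      (LinearMap.congr_fun (e'.toIntertwiningMap.isIntertwining' g) w).symm
    exact (congrArg (fun z : r.toSubmodule => ((z : q.toSubmodule) : V)) h2).symm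
  · change ((π (ρ g y) : p.toSubmodule) : V) = ρ g (π y : V)
    rw [hπc]; rfl
  · intro hc
    have hn : 0 < n := by simpa using finrank_pos_of_isIrreducible τ
    obtain ⟨w, hw⟩ : ∃ w : Fin n → ℂ, w ≠ 0 :=
      ⟨Function.const _ 1, fun h => one_ne_zero (congrFun h ⟨0, hn⟩)⟩
    have h1 := LinearMap.congr_fun hc.eq ((e.toLinearEquiv w : p.toSubmodule) : V)
    change ι (e.toLinearEquiv.symm (π (π ((e.toLinearEquiv w : p.toSubmodule) : V) : V))) =
      ((π (ι (e.toLinearEquiv.symm (π ((e.toLinearEquiv w : p.toSubmodule) : V)))) :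
        p.toSubmodule) : V) at h1
    have hπp : ∀ y : p.toSubmodule, π (y : V) = y := Submodule.projectionOnto_apply_left hpq
    have hπq : ∀ y : Fin n → ℂ, π (ι y) = 0 := fun y =>
      Submodule.projectionOnto_apply_of_mem_right hpq (Subtype.coe_prop _)
    simp only [hπp, LinearEquiv.symm_apply_apply, hπq, Submodule.coe_zero] at h1
    apply hw
    have h2 : e'.toLinearEquiv w = 0 := Subtype.ext (Subtype.ext h1)
    exact (LinearEquiv.map_eq_zero_iff _).1 h2

end rep

/-! ## The permutation representation -/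

section perm

variable {Ω : Type w} [Fintype Ω] [MulAction G Ω]

theorem character_permRep :
    (Cfsg.permRep ℂ G Ω).character = fun g => (Nat.card (fixedBy Ω g) : ℂ) := by
  classical
  funext g
  rw [Representation.character, LinearMap.trace_eq_matrix_trace ℂ (Pi.basisFun ℂ Ω), Matrix.trace,
    Nat.card_eq_fintype_card, Fintype.card_subtype, Finset.natCast_card_filter]
  refine Finset.sum_congr rfl fun x _ => ?_
  rw [Matrix.diag_apply, LinearMap.toMatrix_apply, Pi.basisFun_apply, permRep_single,
    Pi.basisFun_repr, Pi.single_apply]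
  congr 1
  exact propext eq_comm

theorem mem_invariants_iff (S : (Ω → ℂ) →ₗ[ℂ] (Ω → ℂ)) :
    S ∈ ((Cfsg.permRep ℂ G Ω).linHom (Cfsg.permRep ℂ G Ω)).invariants ↔
      ∀ g : G, Commute S (Cfsg.permRep ℂ G Ω g) := by
  rw [Representation.mem_invariants]
  refine forall_congr' fun g => ?_
  rw [Representation.linHom_apply, commute_iff_eq]
  constructor
  · intro h
    conv_lhs => rw [← h]
    refine LinearMap.ext fun x => ?_
    simp [Module.End.mul_apply, Representation.inv_self_apply]
  · intro h
    refine LinearMap.ext fun x => ?_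
    have h1 := LinearMap.congr_fun h (Cfsg.permRep ℂ G Ω g⁻¹ x)
    simp only [Module.End.mul_apply, Representation.self_inv_apply] at h1
    simpa using h1.symm

/-- The indicator of the orbital of `(a, b)`. -/
noncomputable def orbital (G : Type u) [Group G] {Ω : Type w} [MulAction G Ω] (a b : Ω) :
    Ω → Ω → ℂ :=
  fun x y => Set.indicator (orbit G (a, b)) (fun _ => 1) (x, y)

omit [Fintype Ω] in
theorem orbital_smul (a b : Ω) (g : G) (x y : Ω) :
    orbital G a b (g • x) (g • y) = orbital G a b x y := by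
  classical
  simp only [orbital, Set.indicator_apply]
  congr 1
  refine propext ⟨fun h => ?_, fun h => ?_⟩
  · simpa using mem_orbit_of_mem_orbit g⁻¹ h
  · exact mem_orbit_of_mem_orbit g h

omit [Fintype Ω] in
theorem orbital_diag (a b : Ω) (h : a ≠ b) (x : Ω) : orbital G a b x x = 0 := by
  classical
  simp only [orbital, Set.indicator_apply, ite_eq_right_iff]
  rintro ⟨g, hg⟩
  exact absurd (MulAction.injective g
    ((congrArg Prod.fst hg).trans (congrArg Prod.snd hg).symm)) h

theorem orbital_row_sum [IsPretransitive G Ω] (a b : Ω) (x : Ω) :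
    ∑ y, orbital G a b x y = (Nat.card (orbit (stabilizer G a) b) : ℂ) := by
  classical
  obtain ⟨g, rfl⟩ := exists_smul_eq G a x
  rw [← Equiv.sum_comp (MulAction.toPerm g) fun y => orbital G a b (g • a) y]
  simp only [MulAction.toPerm_apply, orbital_smul]
  rw [Nat.card_eq_fintype_card, Fintype.card_subtype, Finset.natCast_card_filter]
  simp only [orbital, Set.indicator_apply]
  refine Finset.sum_congr rfl fun y _ => ?_
  congr 1
  refine propext ⟨?_, ?_⟩
  · rintro ⟨k, hk⟩
    exact ⟨⟨k, congrArg Prod.fst hk⟩, congrArg Prod.snd hk⟩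
  · rintro ⟨k, hk⟩
    exact ⟨k, Prod.ext k.2 hk⟩

theorem orbital_col_sum [IsPretransitive G Ω] (a b : Ω) (y : Ω) :
    ∑ x, orbital G a b x y = (Nat.card (orbit (stabilizer G a) b) : ℂ) := by
  classical
  have hconst : ∀ z, ∑ x, orbital G a b x z = ∑ x, orbital G a b x y := by
    intro z
    obtain ⟨g, rfl⟩ := exists_smul_eq G y z
    rw [← Equiv.sum_comp (MulAction.toPerm g) fun x => orbital G a b x (g • y)]
    simp only [MulAction.toPerm_apply, orbital_smul]
  have h : ∑ z, ∑ x, orbital G a b x z = ∑ x, ∑ z, orbital G a b x z := Finset.sum_comm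
  simp only [hconst, orbital_row_sum, Finset.sum_const, nsmul_eq_mul] at h
  exact mul_left_cancel₀ (Nat.cast_ne_zero.2 (Finset.card_ne_zero_of_mem (Finset.mem_univ y))) h

/-- The orbital matrix as an endomorphism of the permutation module. -/
noncomputable def orbitalMap (a b : Ω) : Module.End ℂ (Ω → ℂ) := kernelMap (orbital G a b)

theorem orbitalMap_comm (a b : Ω) (g : G) :
    Commute (orbitalMap (G := G) a b) (Cfsg.permRep ℂ G Ω g) :=
  LinearMap.ext fun v => kernelMap_comm (orbital_smul a b) g v

theorem isIntegral_eigenvalue_orbital (a b : Ω) {μ : ℂ}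
    (h : Module.End.HasEigenvalue (orbitalMap (G := G) a b) μ) : IsIntegral ℤ μ := by
  classical
  let M : Matrix Ω Ω ℤ := fun y x => Set.indicator (orbit G (a, b)) (fun _ => 1) (x, y)
  have hM : orbitalMap (G := G) a b = Matrix.toLin' (M.map (Int.castRingHom ℂ)) := by
    refine LinearMap.ext fun v => funext fun y => ?_
    change ∑ x, orbital G a b x y * v x = _
    simp only [Matrix.toLin'_apply, Matrix.mulVec, dotProduct, Matrix.map_apply, M, orbital,
      Set.indicator_apply]
    refine Finset.sum_congr rfl fun x _ => ?_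
    change _ = ((if (x, y) ∈ orbit G (a, b) then 1 else 0 : ℤ) : ℂ) * v x
    split_ifs <;> simp
  rw [Module.End.hasEigenvalue_iff_isRoot_charpoly, hM, Matrix.charpoly_toLin',
    Matrix.charpoly_map] at h
  refine ⟨M.charpoly, M.charpoly_monic, ?_⟩
  rw [← Polynomial.eval_map]
  exact h

theorem isCompl_constants_sumZero [Nonempty Ω] :
    IsCompl (Cfsg.permConstants ℂ G Ω).toSubmodule (Cfsg.permSumZero ℂ G Ω).toSubmodule := by
  have hn : (Fintype.card Ω : ℂ) ≠ 0 := Nat.cast_ne_zero.2 Fintype.card_ne_zero
  constructor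
  · rw [Submodule.disjoint_def]
    intro f hf hf'
    obtain ⟨c, rfl⟩ := mem_permConstants.1 hf
    rw [mem_permSumZero, Finset.sum_const, Finset.card_univ, nsmul_eq_mul] at hf'
    funext x
    exact (mul_eq_zero.1 hf').resolve_left hn
  · rw [codisjoint_iff, eq_top_iff]
    intro f _
    refine Submodule.mem_sup.2 ⟨fun _ => (∑ x, f x) / Fintype.card Ω,
      mem_permConstants.2 ⟨_, rfl⟩, f - fun _ => (∑ x, f x) / Fintype.card Ω, ?_, by simp⟩
    rw [mem_permSumZero]
    simp only [Pi.sub_apply, Finset.sum_sub_distrib, Finset.sum_const, Finset.card_univ,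
      nsmul_eq_mul, mul_div_cancel₀ _ hn, sub_self]

theorem character_constants [Nonempty Ω] :
    (Cfsg.permConstants ℂ G Ω).toRepresentation.character = fun _ => 1 := by
  have hne : (fun _ : Ω => (1 : ℂ)) ≠ 0 := fun h => one_ne_zero (congrFun h (Classical.arbitrary Ω))
  have hfr : finrank ℂ (Cfsg.permConstants ℂ G Ω).toSubmodule = 1 := finrank_span_singleton hne
  funext g
  have hid : (Cfsg.permConstants ℂ G Ω).toRepresentation g = 1 := by
    refine LinearMap.ext fun x => Subtype.ext ?_
    obtain ⟨c, hc⟩ := mem_permConstants.1 x.2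
    change Cfsg.permRep ℂ G Ω g (x : Ω → ℂ) = x
    rw [hc]
    rfl
  rw [Representation.character, hid, LinearMap.trace_one, hfr, Nat.cast_one]

/-- Constituents of the sum-zero module of a transitive action. -/
theorem constituent_sumZero [Fintype G] [IsPretransitive G Ω] [Nonempty Ω]
    (χ : Cfsg.IrrCharacter G)
    (h : Cfsg.classInner (Cfsg.permSumZero ℂ G Ω).toRepresentation.character (χ : G → ℂ) ≠ 0) :
    (χ : G → ℂ) ≠ (fun _ => 1) ∧
      Cfsg.classInner (fun g : G => (Nat.card (fixedBy Ω g) : ℂ)) (χ : G → ℂ) ≠ 0 := by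
  have hsplit := classInner_split (Cfsg.permRep ℂ G Ω) _ _
    (isCompl_constants_sumZero (G := G) (Ω := Ω)) (χ : G → ℂ)
  rw [character_permRep, character_constants] at hsplit
  refine ⟨fun h1 => ?_, ?_⟩
  · apply h
    rw [h1] at hsplit ⊢
    have e1 : Cfsg.classInner (fun _ : G => (1 : ℂ)) (fun _ : G => (1 : ℂ)) = 1 :=
      classInner_self_irr (oneChar G)
    have e2 : Cfsg.classInner (fun g : G => (Nat.card (fixedBy Ω g) : ℂ))
        (fun _ : G => (1 : ℂ)) = 1 := classInner_permChar_one Ω
    rw [e1, e2] at hsplit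
    simpa using hsplit
  · obtain ⟨a, ha⟩ := classInner_char_nat (Cfsg.permSumZero ℂ G Ω).toRepresentation χ
    have e1 : ∃ b : ℕ, Cfsg.classInner (fun _ : G => (1 : ℂ)) (χ : G → ℂ) = b :=
      exists_classInner_nat isCharacter_one (isCharacter_irr χ)
    obtain ⟨b, hb⟩ := e1
    rw [hsplit, ha, hb]
    rw [ha, Nat.cast_ne_zero] at h
    rw [← Nat.cast_add, Nat.cast_ne_zero]
    omega

/-- The orbital map on the sum-zero module has trace minus the subdegree. -/
theorem trace_orbital_sumZero [IsPretransitive G Ω] (a b : Ω) (hab : a ≠ b)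
    (hU : ∀ v ∈ (Cfsg.permSumZero ℂ G Ω).toSubmodule,
      orbitalMap (G := G) a b v ∈ (Cfsg.permSumZero ℂ G Ω).toSubmodule) :
    LinearMap.trace ℂ _ ((orbitalMap (G := G) a b).restrict hU) =
      -(Nat.card (orbit (stabilizer G a) b) : ℂ) := by
  classical
  have : Nonempty Ω := ⟨a⟩
  set d := (Nat.card (orbit (stabilizer G a) b) : ℂ) with hd
  have hC : ∀ v ∈ (Cfsg.permConstants ℂ G Ω).toSubmodule, orbitalMap (G := G) a b v = d • v := by
    intro v hv
    obtain ⟨c, rfl⟩ := mem_permConstants.1 hv
    funext y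
    change ∑ x, orbital G a b x y * c = d * c
    rw [← Finset.sum_mul, orbital_col_sum, hd]
  have h := trace_eq_add (orbitalMap (G := G) a b) _ _ (isCompl_constants_sumZero (G := G) (Ω := Ω))
    (fun v hv => by rw [hC v hv]; exact Submodule.smul_mem _ _ hv) hU
  have h0 : LinearMap.trace ℂ _ (orbitalMap (G := G) a b) = 0 := by
    rw [LinearMap.trace_eq_matrix_trace ℂ (Pi.basisFun ℂ Ω), Matrix.trace]
    refine Finset.sum_eq_zero fun x _ => ?_
    rw [Matrix.diag_apply, LinearMap.toMatrix_apply, Pi.basisFun_apply, Pi.basisFun_repr,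
      orbitalMap, kernelMap_single, orbital_diag a b hab]
  have hres : (orbitalMap (G := G) a b).restrict
      (fun v (hv : v ∈ (Cfsg.permConstants ℂ G Ω).toSubmodule) => by
        rw [hC v hv]; exact Submodule.smul_mem _ _ hv) = d • 1 :=
    LinearMap.ext fun v => Subtype.ext (hC v v.2)
  have hfr : finrank ℂ (Cfsg.permConstants ℂ G Ω).toSubmodule = 1 :=
    finrank_span_singleton fun h => one_ne_zero (congrFun h a)
  rw [h0, hres, map_smul, LinearMap.trace_one, hfr, Nat.cast_one, smul_eq_mul, mul_one] at h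
  exact eq_neg_of_add_eq_zero_right h.symm

theorem orbitalMap_sumZero [IsPretransitive G Ω] (a b : Ω) :
    ∀ v ∈ (Cfsg.permSumZero ℂ G Ω).toSubmodule,
      orbitalMap (G := G) a b v ∈ (Cfsg.permSumZero ℂ G Ω).toSubmodule := by
  intro v hv
  rw [mem_permSumZero] at hv ⊢
  change ∑ y, ∑ x, orbital G a b x y * v x = 0
  rw [Finset.sum_comm]
  simp only [← Finset.sum_mul, orbital_row_sum, ← Finset.mul_sum, hv, mul_zero]

/-- A common divisor of the degrees of the non-principal constituents divides all subdegrees. -/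
theorem dvd_subdegree [Fintype G] [IsPretransitive G Ω] (f : ℕ)
    (hf : ∀ χ : Cfsg.IrrCharacter G, (χ : G → ℂ) ≠ (fun _ => 1) →
      Cfsg.classInner (fun g : G => (Nat.card (fixedBy Ω g) : ℂ)) (χ : G → ℂ) ≠ 0 →
      ∃ m : ℕ, (χ : G → ℂ) 1 = (f : ℂ) * m)
    (a b : Ω) (hab : a ≠ b) : f ∣ Nat.card (orbit (stabilizer G a) b) := by
  have : Nonempty Ω := ⟨a⟩
  set U := Cfsg.permSumZero ℂ G Ω
  set T := (orbitalMap (G := G) a b).restrict (orbitalMap_sumZero (G := G) a b) with hTdef
  obtain ⟨z, hz, hz'⟩ := exists_trace_eq_mul U.toRepresentation T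
    (fun g => LinearMap.ext fun v =>
      Subtype.ext (LinearMap.congr_fun (orbitalMap_comm (G := G) a b g).eq v))
    f (fun χ hχ => hf χ (constituent_sumZero χ hχ).1 (constituent_sumZero χ hχ).2)
    (fun μ hμ => by
      obtain ⟨v, hv⟩ := hμ.exists_hasEigenvector
      refine isIntegral_eigenvalue_orbital (G := G) a b (μ := μ) (Module.End.hasEigenvalue_of_hasEigenvector
        (x := ((v : U.toSubmodule) : Ω → ℂ)) ⟨?_, fun h => hv.2 (Subtype.ext h)⟩)
      rw [Module.End.mem_eigenspace_iff]
      exact congrArg Subtype.val hv.apply_eq_smul)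
  rw [hTdef, trace_orbital_sumZero a b hab] at hz'
  exact dvd_of_eq_mul_integral hz.neg (by rw [mul_neg, ← hz', neg_neg])

end perm

end Cfsg.Agent.Lib.PermTrans.Constituents
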